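import Cfsg.Agent.Lib.Recog.ThreeLocalSpSix.Model.Transvection

/-!
Owner: helper24. A non-trivial subgroup normalised by `Six` inside it contains the product of the first two
generators: its commutators with transvections give products of two non-commuting transvections, which are
conjugate in pairs.
-/

set_option autoImplicit false

namespace CfsgLib.Recog.ThreeLocalSpSix.Model

open Matrix
open CfsgLib.Schur.Cox.SpSix (vec6)

/-- the image of `c` under the transvection of `a` -/
def tt (a c : ℕ) : ℕ :=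
  if ((List.range 6).countP fun j => a.testBit j && c.testBit ((j + 3) % 6)) % 2 = 1 then a ^^^ c else c

theorem tt_ok : dList.all (fun a => dList.all fun c =>
    decide ((Cfsg.sympTransvection 3 (vec6 a) (1 : ZMod 2)) *ᵥ vec6 c = vec6 (tt a c))) = true := by
  decide +kernel

theorem T_mulVec {a c : ℕ} (ha : a ∈ dList) (hc : c ∈ dList) :
    (T (vec6 a)).1 *ᵥ vec6 c = vec6 (tt a c) := by
  have h := List.all_eq_true.1 (List.all_eq_true.1 tt_ok a ha) c hc
  rw [T_val]
  exact of_decide_eq_true h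

/-- the codes of the non-orthogonal pairs -/
def pairList : List ℕ := (32 * 64 + 6) :: pairSteps.map fun s => s.2.2

theorem pairSteps_ok : pairSteps.all (fun s =>
    dList.contains (s.2.1 / 64) && dList.contains (s.2.1 % 64) &&
      Nat.beq (dImg s.1 (s.2.1 / 64)) (s.2.2 / 64) && Nat.beq (dImg s.1 (s.2.1 % 64)) (s.2.2 % 64)) = true := by
  decide +kernel

/-- parents precede children -/
theorem pair_chain : chainOK (fun i w => dImg i (w / 64) * 64 + dImg i (w % 64)) [32 * 64 + 6] pairSteps
    pairList = true := by decide +kernel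

/-- the pairs as the bits of a number -/
def pairMask : ℕ := pairList.foldr (fun w m => Nat.lor (Nat.shiftLeft 1 w) m) 0

theorem mem_of_testBit : ∀ {L : List ℕ} {w : ℕ},
    (L.foldr (fun w m => Nat.lor (Nat.shiftLeft 1 w) m) 0).testBit w = true → w ∈ L
  | [], w, h => by simp at h
  | a :: L, w, h => by
    rw [List.foldr_cons] at h
    have h' : ((1 <<< a) ||| (L.foldr (fun w m => Nat.lor (Nat.shiftLeft 1 w) m) 0)).testBit w = true := h
    rw [Nat.testBit_or, Bool.or_eq_true, Nat.one_shiftLeft, Nat.testBit_two_pow] at h'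
    rcases h' with h1 | h1
    · rw [decide_eq_true_iff] at h1
      exact h1 ▸ List.mem_cons_self
    · exact List.mem_cons_of_mem _ (mem_of_testBit h1)

theorem commute_case_ok : dList.all (fun x => dList.all fun d => Nat.beq x d || pairMask.testBit (x * 64 + d) ||
    dList.any (fun c => Nat.beq (tt d c) c && dList.contains (tt x c) &&
      pairMask.testBit (tt x c * 64 + c))) = true := by decide +kernel

theorem unit_ok : (List.finRange 6).all (fun j => dList.contains (unitPairs j).1 && dList.contains (unitPairs j).2 &&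
    decide (vec6 (unitPairs j).1 + vec6 (unitPairs j).2 = vec6 (2 ^ j.val))) = true := by decide +kernel

theorem vec6_single : ∀ k : Fin 3 ⊕ Fin 3, ∃ j : Fin 6, vec6 (2 ^ j.val) = Pi.single k 1 := by
  decide +kernel

/-- an element fixing the 36 vectors is trivial -/
theorem eq_one_of_fix {x : Sp62} (h : ∀ m ∈ dList, x.1 *ᵥ vec6 m = vec6 m) : x = 1 := by
  refine Subtype.ext (Matrix.ext fun r k => ?_)
  obtain ⟨j, hj⟩ := vec6_single k
  have h2 := List.all_eq_true.1 unit_ok j (List.mem_finRange j)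
  rw [Bool.and_eq_true, Bool.and_eq_true, decide_eq_true_iff, List.contains_iff_mem, List.contains_iff_mem] at h2
  have h3 : x.1 *ᵥ Pi.single k 1 = Pi.single k 1 := by
    rw [← hj, ← h2.2, mulVec_add, h _ h2.1.1, h _ h2.1.2]
  rw [mulVec_single_one] at h3
  have h4 := congrFun h3 r
  rw [Matrix.col_apply] at h4
  rw [h4, Submonoid.coe_one, Matrix.one_apply, Pi.single_apply]

theorem mem_of_normal {N : Subgroup Sp62} (hN : N ≤ Six) (hn : ∀ g ∈ Six, ∀ x ∈ N, g * x * g⁻¹ ∈ N)
    (hne : N ≠ ⊥) : gen 0 * gen 1 ∈ N := by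
  obtain ⟨z, hz, hz1⟩ : ∃ z ∈ N, z ≠ 1 := by
    by_contra h
    exact hne (eq_bot_iff.2 fun x hx => Subgroup.mem_bot.2 (by_contra fun h1 => h ⟨x, hx, h1⟩))
  obtain ⟨d, hd, hdne⟩ : ∃ d ∈ dList, z.1 *ᵥ vec6 d ≠ vec6 d := by
    by_contra h
    exact hz1 (eq_one_of_fix fun m hm => by_contra fun h1 => h ⟨m, hm, h1⟩)
  obtain ⟨x, hx, ex⟩ := six_stab (hN hz) hd
  -- the product of the transvections of `x` and `d` lies in `N`
  have hcomm : ∀ n ∈ N, ∀ c ∈ dList, T (n.1 *ᵥ vec6 c) * T (vec6 c) ∈ N := by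
    intro n hn' c hc
    rw [T_conj, show n * T (vec6 c) * n⁻¹ * T (vec6 c) = n * (T (vec6 c) * n⁻¹ * (T (vec6 c))⁻¹) by
      rw [T_inv]; simp only [mul_assoc]]
    exact mul_mem hn' (hn _ (T_mem_six hc) _ (inv_mem hn'))
  have h0 := hcomm z hz d hd
  rw [ex] at h0
  have hxd : x ≠ d := fun e => hdne (by rw [ex, e])
  obtain ⟨a, b, hab, hgood⟩ : ∃ a b, a * 64 + b ∈ pairList ∧ b < 64 ∧ T (vec6 a) * T (vec6 b) ∈ N := by
    have h2 := List.all_eq_true.1 (List.all_eq_true.1 commute_case_ok x hx) d hd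
    have hlt : ∀ m ∈ dList, m < 64 := by decide +kernel
    rw [Bool.or_eq_true, Bool.or_eq_true, List.any_eq_true] at h2
    rcases h2 with (h2 | h2) | ⟨c, hc, h2⟩
    · exact absurd (Nat.eq_of_beq_eq_true h2) hxd
    · exact ⟨x, d, mem_of_testBit h2, hlt d hd, h0⟩
    · rw [Bool.and_eq_true, Bool.and_eq_true, List.contains_iff_mem] at h2
      refine ⟨tt x c, c, mem_of_testBit h2.2, hlt c hc, ?_⟩
      have h3 := hcomm _ h0 c hc
      rwa [← smul_mulVec, T_mulVec hd hc, Nat.eq_of_beq_eq_true h2.1.1, T_mulVec hx hc] at h3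
  obtain ⟨hb, hgood⟩ := hgood
  -- pull the product back along the tree of pairs
  have hback : T (vec6 ((a * 64 + b) / 64)) * T (vec6 ((a * 64 + b) % 64)) ∈ N →
      T (vec6 (2054 / 64)) * T (vec6 (2054 % 64)) ∈ N := by
    refine of_chainOK (P := fun w => T (vec6 (w / 64)) * T (vec6 (w % 64)) ∈ N →
      T (vec6 (2054 / 64)) * T (vec6 (2054 % 64)) ∈ N) pairSteps [32 * 64 + 6] pairList pair_chain ?_ ?_ _ hab
    · intro i w hs hw hchild
      refine hw ?_
      have h3 := List.all_eq_true.1 pairSteps_ok _ hs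
      simp only [Bool.and_eq_true, List.contains_iff_mem, Nat.beq_eq] at h3
      have hi := gen_mem_six i
      have h4 := hn _ (inv_mem hi) _ hchild
      rw [← h3.1.2, ← h3.2, ← (gen_mulVec i h3.1.1.1).1, ← (gen_mulVec i h3.1.1.2).1, T_conj, T_conj] at h4
      rwa [conj_mul, inv_inv, show ((gen i.castSucc)⁻¹ * (gen i.castSucc *
        (T (vec6 (w / 64)) * T (vec6 (w % 64))) * (gen i.castSucc)⁻¹) * gen i.castSucc) =
          T (vec6 (w / 64)) * T (vec6 (w % 64)) by group] at h4
    · intro w hw h5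
      rw [List.mem_singleton.1 hw] at h5
      exact h5
  have e1 : (a * 64 + b) / 64 = a := by omega
  have e2 : (a * 64 + b) % 64 = b := by omega
  rw [e1, e2] at hback
  rw [gen_zero, gen_one]
  exact hback hgood

end CfsgLib.Recog.ThreeLocalSpSix.Model
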