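import Cfsg.Agent.Lib.Recog.ThreeLocalSpSix.Model.Bound
import Cfsg.Agent.Lib.Recog.ThreeLocalSpSix.Model.Normal
import Cfsg.Agent.Lib.Classical.RingTransfer

/-!
Owner: helper24. `W(E₆)` and `Sp₆(2)` from the relators: homomorphisms out of the model.
-/

set_option autoImplicit false

namespace CfsgLib.Recog.ThreeLocalSpSix.Model



theorem card_sp62 : Nat.card Sp62 = 1451520 := CfsgLib.Schur.Cox.SpSix.card_grp

theorem relsSix_gen : ∀ w ∈ relsSix, (w.map fun i => gen i.castSucc).prod = 1 := by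
  have h : relsSix.all (fun w => decide ((w.map fun i => genMat i.castSucc).prod = 1)) = true := by decide +kernel
  intro w hw
  refine Subtype.ext ?_
  rw [Submonoid.coe_list_prod, List.map_map, Submonoid.coe_one]
  exact of_decide_eq_true (List.all_eq_true.1 h w hw)

theorem relsSeven_gen : ∀ w ∈ relsSeven, (w.map gen).prod = 1 := by
  have h : relsSeven.all (fun w => decide ((w.map genMat).prod = 1)) = true := by decide +kernel
  intro w hw
  refine Subtype.ext ?_
  rw [Submonoid.coe_list_prod, List.map_map, Submonoid.coe_one]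
  exact of_decide_eq_true (List.all_eq_true.1 h w hw)

theorem card_six : Nat.card Six = 51840 := by
  have h5 := card_le_six _ relsSix_gen
  have h7 := card_le_seven gen relsSeven_gen h5.1
  refine le_antisymm h5.2 ?_
  have h := h7.2
  rw [closure_gen, Subgroup.card_top, card_sp62] at h
  have h' : 28 * 51840 ≤ 28 * Nat.card Six := le_trans (by norm_num) h
  exact Nat.le_of_mul_le_mul_left h' (by norm_num)

theorem closure_sixGen : Subgroup.closure (Set.range sixGen) = ⊤ := by
  refine Subgroup.map_injective Six.subtype_injective ?_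
  rw [MonoidHom.map_closure, ← Set.range_comp, ← MonoidHom.range_eq_map, Subgroup.range_subtype]
  rfl

theorem relsSix_sixGen : ∀ w ∈ relsSix, (w.map sixGen).prod = 1 := fun w hw => Subtype.ext (by
  rw [Subgroup.val_list_prod, List.map_map, Subgroup.coe_one]
  exact relsSix_gen w hw)

/-- a map of generators extends when the pairs span a group no larger than the source -/
theorem exists_hom_of_bound {M G ι : Type*} [Group M] [Group G] [Finite M] (x : ι → M)
    (hx : Subgroup.closure (Set.range x) = ⊤) (g : ι → G)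
    (hf : Finite (Subgroup.closure (Set.range fun i => (x i, g i))))
    (hc : Nat.card (Subgroup.closure (Set.range fun i => (x i, g i))) ≤ Nat.card M) :
    ∃ φ : M →* G, ∀ i, φ (x i) = g i := by
  set K := Subgroup.closure (Set.range fun i => (x i, g i)) with hK
  let π : K →* M := (MonoidHom.fst M G).comp K.subtype
  have hs : Function.Surjective π := by
    rw [← MonoidHom.range_eq_top, MonoidHom.range_comp, Subgroup.range_subtype, hK, MonoidHom.map_closure,
      ← Set.range_comp]
    exact hx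
  let e : K ≃* M := MulEquiv.ofBijective π (hs.bijective_of_nat_card_le hc)
  refine ⟨((MonoidHom.snd M G).comp K.subtype).comp e.symm.toMonoidHom, fun i => ?_⟩
  have h1 : e.symm (x i) = ⟨(x i, g i), Subgroup.subset_closure ⟨i, rfl⟩⟩ := e.symm_apply_eq.2 rfl
  show (e.symm (x i)).1.2 = g i
  rw [h1]

variable {G : Type*} [Group G]

theorem prod_pair {ι M : Type*} [Group M] (x : ι → M) (g : ι → G) (w : List ι) :
    (w.map fun i => (x i, g i)).prod = ((w.map x).prod, (w.map g).prod) := by
  induction w with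
  | nil => rfl
  | cons a w ih => simp [ih]

/-- the homomorphism on `W(E₆)`, with no condition on `g` -/
theorem exists_hom_six' (g : Fin 5 → G) (hrel : ∀ w ∈ relsSix, (w.map g).prod = 1) :
    ∃ φ : Six →* G, ∀ i, φ (sixGen i) = g i := by
  obtain ⟨hf, hc⟩ := card_le_six (fun i => (sixGen i, g i)) fun w hw => by
    rw [prod_pair, relsSix_sixGen w hw, hrel w hw]; rfl
  exact exists_hom_of_bound sixGen closure_sixGen g hf (by rwa [card_six])

theorem injective_of_forced {M : Type*} [Group M] {H : Subgroup M} (φ : H →* G) (a b : H)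
    (hH : ∀ N ≤ H, (∀ g ∈ H, ∀ x ∈ N, g * x * g⁻¹ ∈ N) → N ≠ ⊥ → (a : M) * b ∈ N) (hne : φ a * φ b ≠ 1) :
    Function.Injective φ := by
  rw [← MonoidHom.ker_eq_bot_iff]
  by_contra h
  refine hne ?_
  have hmem : (a : M) * b ∈ φ.ker.map H.subtype := by
    refine hH _ (Subgroup.map_subtype_le _) ?_ fun e => h ?_
    · rintro g hg _ ⟨y, hy, rfl⟩
      exact ⟨⟨g, hg⟩ * y * ⟨g, hg⟩⁻¹, (MonoidHom.normal_ker φ).conj_mem y hy _, rfl⟩
    · rwa [Subgroup.map_eq_bot_iff_of_injective _ H.subtype_injective] at e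
  obtain ⟨y, hy, ey⟩ := hmem
  have hy' : y = a * b := Subtype.ext ey
  rw [hy', SetLike.mem_coe, MonoidHom.mem_ker, map_mul] at hy
  exact hy

theorem exists_hom_six [Finite G] (g : Fin 5 → G) (hrel : ∀ w ∈ relsSix, (w.map g).prod = 1)
    (hne : g 0 * g 1 ≠ 1) :
    ∃ φ : Six →* G, Function.Injective φ ∧ ∀ i, φ (sixGen i) = g i := by
  obtain ⟨φ, hφ⟩ := exists_hom_six' g hrel
  exact ⟨φ, injective_of_forced φ (sixGen 0) (sixGen 1)
    (fun N h1 h2 h3 => mem_of_normal h1 h2 h3) (by rwa [hφ, hφ]), hφ⟩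

theorem exists_hom_seven (g : Fin 6 → G) (hrel : ∀ w ∈ relsSeven, (w.map g).prod = 1) (hne : g 0 * g 1 ≠ 1) :
    ∃ φ : Sp62 →* G, Function.Injective φ ∧ ∀ i, φ (gen i) = g i := by
  have hpair : ∀ w ∈ relsSeven, (w.map fun i => (gen i, g i)).prod = 1 := fun w hw => by
    rw [prod_pair, relsSeven_gen w hw, hrel w hw]; rfl
  obtain ⟨hf, hc⟩ := card_le_seven' (fun i => (gen i, g i)) hpair
  obtain ⟨φ, hφ⟩ := exists_hom_of_bound gen closure_gen g hf (hc.trans card_sp62.ge)
  refine ⟨φ, ?_, hφ⟩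
  have := CfsgLib.Schur.Cox.SpSix.isSimpleGroup_grp
  rw [← MonoidHom.ker_eq_bot_iff]
  refine (Subgroup.Normal.eq_bot_or_eq_top (MonoidHom.normal_ker φ)).resolve_right fun h => hne ?_
  rw [← hφ, ← hφ, ← map_mul, ← MonoidHom.mem_ker, h]
  trivial

theorem six_index_two : ∃ χ : Six →* Multiplicative (ZMod 2), Function.Surjective χ := by
  obtain ⟨χ, hχ⟩ := exists_hom_six' (G := Multiplicative (ZMod 2))
    (fun i => Multiplicative.ofAdd (![1, 1, 0, 0, 1] i)) (by decide +kernel)
  refine ⟨χ, fun a => ?_⟩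
  rcases (by decide : ∀ a : Multiplicative (ZMod 2), a = 1 ∨ a = Multiplicative.ofAdd 1) a with rfl | rfl
  · exact ⟨1, map_one χ⟩
  · exact ⟨sixGen 0, hχ 0⟩

theorem mulEquiv_sp (F₂ : Type*) [Field F₂] [Fintype F₂] (h : Fintype.card F₂ = 2) :
    Nonempty (Sp62 ≃* Matrix.symplecticGroup (Fin 3) F₂) :=
  ⟨CfsgLib.Classical.symplecticMap (ZMod.ringEquivOfPrime F₂ Nat.prime_two h) (Fin 3)⟩

end CfsgLib.Recog.ThreeLocalSpSix.Model
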