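import Cfsg.Agent.Lib.Recog.ThreeLocalSpSix.Model.Data
import Cfsg.Agent.Lib.Recog.SporBound.SpSixLow.Valid
import Cfsg.Agent.Lib.Recog.SporBound.SpSixMid.Valid
import Cfsg.Agent.Lib.Recog.SporBound.SpSixTop.Valid
import Cfsg.Agent.Lib.Recog.SporBound.SpSixFull.Valid

/-!
Owner: helper24. Order bounds for groups with five or six generators satisfying the relators
(enumerations over `⟨g 0, .., g 3⟩`, of order at most 1296, with 40 cosets, and over `⟨g 0, .., g 4⟩` with 28, or over
`⟨g 0, .., g 3⟩` with 1120).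
-/

set_option autoImplicit false

namespace CfsgLib.Recog.ThreeLocalSpSix.Model

open CfsgLib.Recog.SporBound

variable {G : Type*} [Group G]

/-- the generators as a sequence -/
def ext {n : ℕ} (g : Fin n → G) (x : ℕ) : G := if h : x < n then g ⟨x, h⟩ else 1

theorem ext_val {n : ℕ} (g : Fin n → G) (i : Fin n) : ext g i.val = g i := dif_pos i.2

/-- the hypotheses of the certificates -/
theorem cert_hyps {n : ℕ} (hn : n ≤ 6) (g : Fin n → G) (R : List (List (Fin n)))
    (hR : ∀ w ∈ R, (w.map g).prod = 1) (hsq : (List.finRange n).all (fun i => R.contains [i, i]) = true) :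
    (∀ x, ext g x * ext g x = 1) ∧ ext g CfsgLib.ThreeTrans.CosetIndex.eqLetter = 1 ∧
      ∀ C : Cert, C.rels.all (fun w => (R.map (List.map Fin.val)).contains w) = true →
        ∀ w ∈ C.rels, (w.map (ext g)).prod = 1 := by
  refine ⟨fun x => ?_, ?_, fun C hC w hw => ?_⟩
  · unfold ext
    split
    · next h =>
      have := hR _ (List.contains_iff_mem.1 (List.all_eq_true.1 hsq ⟨x, h⟩ (List.mem_finRange _)))
      simpa using this
    · exact one_mul 1
  · exact dif_neg (by simp only [CfsgLib.ThreeTrans.CosetIndex.eqLetter]; omega)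
  · obtain ⟨u, hu, rfl⟩ := List.mem_map.1 (List.contains_iff_mem.1 (List.all_eq_true.1 hC w hw))
    rw [List.map_map, show ext g ∘ Fin.val = g from funext (ext_val g)]
    exact hR u hu

theorem wordsIn_range {n m : ℕ} (hm : m ≤ n) (g : Fin n → G) {C : Cert}
    (h : C.subs.all (fun w => w.all (fun x => decide (x < m))) = true) :
    Cert.WordsIn (ext g) (Subgroup.closure (Set.range fun i : Fin m => g (Fin.castLE hm i))) C.subs := by
  intro w hw
  refine Subgroup.list_prod_mem _ fun a ha => ?_
  obtain ⟨x, hx, rfl⟩ := List.mem_map.1 ha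
  have hxm : x < m := by simpa using List.all_eq_true.1 (List.all_eq_true.1 h w hw) x hx
  exact Subgroup.subset_closure ⟨⟨x, hxm⟩, (ext_val g (Fin.castLE hm ⟨x, hxm⟩)).symm⟩

theorem range_le_letters {n m : ℕ} (hm : m ≤ n) (g : Fin n → G) {L : List ℕ}
    (h : (List.range m).all (fun x => L.contains x) = true) :
    Subgroup.closure (Set.range fun i : Fin m => g (Fin.castLE hm i)) ≤
      Subgroup.closure {a | ∃ x ∈ L, a = ext g x} := by
  refine (Subgroup.closure_le _).2 ?_
  rintro _ ⟨i, rfl⟩
  exact Subgroup.subset_closure ⟨i.val,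
    List.contains_iff_mem.1 (List.all_eq_true.1 h i.val (List.mem_range.2 i.2)),
    (ext_val g (Fin.castLE hm i)).symm⟩

theorem card_le_six (g : Fin 5 → G) (hrel : ∀ w ∈ relsSix, (w.map g).prod = 1) :
    Finite (Subgroup.closure (Set.range g)) ∧ Nat.card (Subgroup.closure (Set.range g)) ≤ 51840 := by
  obtain ⟨hinv, he, hr⟩ := cert_hyps (by norm_num) g relsSix hrel (by decide +kernel)
  have h45 : 4 ≤ 5 := by norm_num
  obtain ⟨hf, h1⟩ := Cert.card_le hinv he SpSixLow.ok ⊥
    (Subgroup.closure (Set.range fun i : Fin 4 => g (Fin.castLE h45 i)))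
    (hr _ (by decide +kernel)) (fun w hw => by simp [SpSixLow.cert] at hw)
    (range_le_letters _ g (by decide +kernel))
  obtain ⟨hf2, h2⟩ := Cert.card_le hinv he SpSixMid.ok _
    (Subgroup.closure (Set.range fun i : Fin 5 => g (Fin.castLE le_rfl i)))
    (hr _ (by decide +kernel)) (wordsIn_range (m := 4) h45 g (by decide +kernel))
    (range_le_letters _ g (by decide +kernel))
  simp only [Fin.castLE_rfl, id_eq] at hf2 h2
  rw [Subgroup.card_bot, mul_one] at h1
  exact ⟨hf2, h2.trans ((Nat.mul_le_mul_left _ h1).trans (by decide +kernel))⟩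

theorem card_le_seven (g : Fin 6 → G) (hrel : ∀ w ∈ relsSeven, (w.map g).prod = 1)
    (hfin : Finite (Subgroup.closure (Set.range fun i : Fin 5 => g i.castSucc))) :
    Finite (Subgroup.closure (Set.range g)) ∧ Nat.card (Subgroup.closure (Set.range g)) ≤
      28 * Nat.card (Subgroup.closure (Set.range fun i : Fin 5 => g i.castSucc)) := by
  obtain ⟨hinv, he, hr⟩ := cert_hyps le_rfl g relsSeven hrel (by decide +kernel)
  obtain ⟨hf, h1⟩ := Cert.card_le hinv he SpSixTop.ok (Subgroup.closure (Set.range fun i : Fin 5 => g i.castSucc))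
    (Subgroup.closure (Set.range fun i : Fin 6 => g (Fin.castLE le_rfl i)))
    (hr _ (by decide +kernel)) (wordsIn_range (m := 5) (by norm_num) g (by decide +kernel))
    (range_le_letters _ g (by decide +kernel))
  simp only [Fin.castLE_rfl, id_eq] at hf h1
  exact ⟨hf, h1.trans (Nat.mul_le_mul_right _ (by decide +kernel))⟩

/-- the bound from the relators of `Sp₆(2)` alone -/
theorem card_le_seven' (g : Fin 6 → G) (hrel : ∀ w ∈ relsSeven, (w.map g).prod = 1) :
    Finite (Subgroup.closure (Set.range g)) ∧ Nat.card (Subgroup.closure (Set.range g)) ≤ 1451520 := by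
  obtain ⟨hinv, he, hr⟩ := cert_hyps le_rfl g relsSeven hrel (by decide +kernel)
  have h46 : 4 ≤ 6 := by norm_num
  obtain ⟨hf, h1⟩ := Cert.card_le hinv he SpSixLow.ok ⊥
    (Subgroup.closure (Set.range fun i : Fin 4 => g (Fin.castLE h46 i)))
    (hr _ (by decide +kernel)) (fun w hw => by simp [SpSixLow.cert] at hw)
    (range_le_letters _ g (by decide +kernel))
  obtain ⟨hf2, h2⟩ := Cert.card_le hinv he SpSixFull.ok _
    (Subgroup.closure (Set.range fun i : Fin 6 => g (Fin.castLE le_rfl i)))
    (hr _ (by decide +kernel)) (wordsIn_range (m := 4) h46 g (by decide +kernel))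
    (range_le_letters _ g (by decide +kernel))
  simp only [Fin.castLE_rfl, id_eq] at hf2 h2
  rw [Subgroup.card_bot, mul_one] at h1
  exact ⟨hf2, h2.trans ((Nat.mul_le_mul_left _ h1).trans (by decide +kernel))⟩

end CfsgLib.Recog.ThreeLocalSpSix.Model
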