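import Cfsg.Agent.Lib.Recog.ThreeLocalSpSix.Model.Data

/-!
Owner: helper3. Products of the generators of the model as lists of rows in binary.
-/

set_option autoImplicit false
set_option linter.all false
set_option maxRecDepth 100000

namespace CfsgLib.Recog.ThreeLocalSpSix.Model

/-- The coordinate at a position. -/
def idx : Fin 6 → Fin 3 ⊕ Fin 3 := ![Sum.inl 0, Sum.inl 1, Sum.inl 2, Sum.inr 0, Sum.inr 1, Sum.inr 2]

theorem idx_pos : ∀ r, idx (pos r) = r := by decide +kernel

/-- A vector in binary. -/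
def num (x : Fin 3 ⊕ Fin 3 → ZMod 2) : ℕ :=
  ((List.finRange 6).map fun c => (x (idx c)).val * 2 ^ c.val).sum

/-- A vector times a generator, in binary. -/
def stepRow (i : Fin 6) (n : ℕ) : ℕ :=
  (List.finRange 6).foldl (fun m c => if n.testBit c.val then Nat.xor m (genRows i c) else m) 0

/-- The vector with the given bits. -/
def ofBits (n : ℕ) : Fin 3 ⊕ Fin 3 → ZMod 2 := fun j => ((n / 2 ^ (pos j).val % 2 : ℕ) : ZMod 2)

theorem num_ofBits : ∀ n < 64, num (ofBits n) = n := by decide +kernel

theorem ofBits_num (x : Fin 3 ⊕ Fin 3 → ZMod 2) : ofBits (num x) = x := by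
  have h : ∀ a b c d e f : ZMod 2, ∀ j, ofBits (num (Sum.elim ![a, b, c] ![d, e, f])) j =
      Sum.elim ![a, b, c] ![d, e, f] j := by decide +kernel
  have e : x = Sum.elim ![x (.inl 0), x (.inl 1), x (.inl 2)] ![x (.inr 0), x (.inr 1), x (.inr 2)] := by
    funext j; rcases j with j | j <;> fin_cases j <;> rfl
  rw [e]
  funext j
  exact h _ _ _ _ _ _ j

theorem num_lt (x : Fin 3 ⊕ Fin 3 → ZMod 2) : num x < 64 := by
  have h : ∀ a b c d e f : ZMod 2, num (Sum.elim ![a, b, c] ![d, e, f]) < 64 := by decide +kernel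
  have e : x = Sum.elim ![x (.inl 0), x (.inl 1), x (.inl 2)] ![x (.inr 0), x (.inr 1), x (.inr 2)] := by
    funext j; rcases j with j | j <;> fin_cases j <;> rfl
  rw [e]
  exact h _ _ _ _ _ _

theorem num_inj {x y : Fin 3 ⊕ Fin 3 → ZMod 2} (h : num x = num y) : x = y := by
  rw [← ofBits_num x, h, ofBits_num]

theorem stepRow_ok : ∀ i : Fin 6, ∀ n : Fin 64,
    num (Matrix.vecMul (ofBits n.val) (genMat i)) = stepRow i n.val := by decide +kernel

/-- The rows of a matrix. -/
def rowsOf (M : Matrix (Fin 3 ⊕ Fin 3) (Fin 3 ⊕ Fin 3) (ZMod 2)) : List ℕ :=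
  (List.finRange 6).map fun r => num (M (idx r))

/-- The rows of a product of generators. -/
def wordRows (w : List (Fin 6)) : List ℕ :=
  w.foldl (fun L i => L.map (stepRow i)) [1, 2, 4, 8, 16, 32]

theorem rowsOf_one : rowsOf 1 = [1, 2, 4, 8, 16, 32] := by decide +kernel

theorem rowsOf_mul (M : Matrix (Fin 3 ⊕ Fin 3) (Fin 3 ⊕ Fin 3) (ZMod 2)) (i : Fin 6) :
    rowsOf (M * genMat i) = (rowsOf M).map (stepRow i) := by
  rw [rowsOf, rowsOf, List.map_map]
  refine List.map_congr_left fun r _ => ?_
  show num ((M * genMat i) (idx r)) = stepRow i (num (M (idx r)))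
  have h := stepRow_ok i ⟨num (M (idx r)), num_lt _⟩
  simp only [ofBits_num] at h
  rw [Matrix.mul_apply_eq_vecMul]
  exact h

theorem rowsOf_word : ∀ (w : List (Fin 6)) (M : Sp62),
    rowsOf (M * (w.map gen).prod).1 = w.foldl (fun L i => L.map (stepRow i)) (rowsOf M.1) := by
  intro w
  induction w with
  | nil => intro M; simp
  | cons i w ih =>
    intro M
    rw [List.map_cons, List.prod_cons, ← mul_assoc, ih, List.foldl_cons]
    exact congrArg (fun L => w.foldl (fun L i => L.map (stepRow i)) L) (rowsOf_mul M.1 i)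

theorem rows_word (w : List (Fin 6)) : rowsOf (w.map gen).prod.1 = wordRows w := by
  have h := rowsOf_word w 1
  rwa [one_mul, show ((1 : Sp62)).1 = 1 from rfl, rowsOf_one] at h

/-- Two products of generators with the same rows are equal. -/
theorem word_eq_of_rows {w w' : List (Fin 6)} (h : wordRows w = wordRows w') :
    (w.map gen).prod = (w'.map gen).prod := by
  rw [← rows_word, ← rows_word] at h
  refine Subtype.ext (funext fun r => num_inj ?_)
  have h2 := List.map_eq_map_iff.1 h (pos r) (List.mem_finRange _)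
  rwa [idx_pos] at h2

theorem rows_of_word_eq {w w' : List (Fin 6)} (h : (w.map gen).prod = (w'.map gen).prod) :
    wordRows w = wordRows w' := by rw [← rows_word, ← rows_word, h]

end CfsgLib.Recog.ThreeLocalSpSix.Model
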