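import Cfsg.Agent.Lib.Recog.ThreeLocalSpSix.Model.Data
import Cfsg.Agent.Lib.Schur.Coxeter.SpSix

/-!
Owner: helper24. The transvections in the model: the six generators generate `Sp₆(2)`, and the first five
act on 36 vectors.
-/

set_option autoImplicit false

namespace CfsgLib.Recog.ThreeLocalSpSix.Model

open Matrix
open CfsgLib.Schur.Cox.SpSix (vec6 tvec)

/-- the subgroup generated by the first five generators -/
def Six : Subgroup Sp62 := Subgroup.closure (Set.range fun i : Fin 5 => gen i.castSucc)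

theorem gen_mem_six (i : Fin 5) : gen i.castSucc ∈ Six := Subgroup.subset_closure ⟨i, rfl⟩

/-- a generator of `Six`, as an element of it -/
def sixGen (i : Fin 5) : Six := ⟨gen i.castSucc, gen_mem_six i⟩

/-- the transvection of a vector -/
def T (v : Fin 3 ⊕ Fin 3 → ZMod 2) : Sp62 :=
  ⟨Cfsg.sympTransvection 3 v 1, CfsgLib.Classical.Symp.sympTransvection_mem _ _⟩

theorem tvec_eq (m : ℕ) : tvec m = T (vec6 m) := rfl

theorem transvection_mul_gen {n : ℕ} {F : Type*} [Field F] (g : Matrix.symplecticGroup (Fin n) F)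
    (v : Fin n ⊕ Fin n → F) (c : F) :
    Cfsg.sympTransvection n (g.1 *ᵥ v) c * g.1 = g.1 * Cfsg.sympTransvection n v c := by
  simp only [Cfsg.sympTransvection, Matrix.add_mul, Matrix.mul_add, Matrix.one_mul, Matrix.mul_one,
    Matrix.smul_mul, Matrix.mul_smul, vecMulVec_mul, mul_vecMulVec]
  congr 3
  rw [← mulVec_transpose, mulVec_mulVec, mulVec_mulVec, SymplecticGroup.mem_iff'.1 g.2]

theorem T_val (v : Fin 3 ⊕ Fin 3 → ZMod 2) : (T v).1 = Cfsg.sympTransvection 3 v 1 := rfl

theorem gen_val (i : Fin 6) : (gen i).1 = genMat i := rfl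

theorem T_conj (g : Sp62) (v : Fin 3 ⊕ Fin 3 → ZMod 2) : T (g.1 *ᵥ v) = g * T v * g⁻¹ := by
  refine eq_mul_inv_iff_mul_eq.2 (Subtype.ext ?_)
  rw [Submonoid.coe_mul, Submonoid.coe_mul, T_val, T_val]
  exact transvection_mul_gen g v 1

theorem smul_mulVec (g h : Sp62) (v : Fin 3 ⊕ Fin 3 → ZMod 2) : g.1 *ᵥ (h.1 *ᵥ v) = (g * h).1 *ᵥ v := by
  rw [Submonoid.coe_mul, mulVec_mulVec]

theorem T_sq (v : Fin 3 ⊕ Fin 3 → ZMod 2) : T v * T v = 1 := by
  refine Subtype.ext ?_
  rw [Submonoid.coe_mul, T_val, CfsgLib.Classical.Symp.sympTransvection_mul,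
    show (1 : ZMod 2) + 1 = 0 by decide, Submonoid.coe_one, Cfsg.sympTransvection, zero_smul, add_zero]

theorem T_inv (v : Fin 3 ⊕ Fin 3 → ZMod 2) : (T v)⁻¹ = T v := inv_eq_of_mul_eq_one_right (T_sq v)

theorem gen_zero : gen 0 = T (vec6 32) := Subtype.ext (by show genMat 0 = _; decide +kernel)

theorem gen_one : gen 1 = T (vec6 6) := Subtype.ext (by show genMat 1 = _; decide +kernel)

/-- a chain of images under the generators -/
def chainOK {n : ℕ} (img : Fin n → ℕ → ℕ) : List ℕ → List (Fin n × ℕ × ℕ) → List ℕ → Bool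
  | known, [], need => need.all fun m => known.contains m
  | known, (i, w, x) :: r, need => known.contains w && Nat.beq (img i w) x && chainOK img (x :: known) r need

theorem of_chainOK {n : ℕ} {img : Fin n → ℕ → ℕ} {P : ℕ → Prop} : ∀ (L : List (Fin n × ℕ × ℕ)) (known need : List ℕ),
    chainOK img known L need = true → (∀ i w, (i, w, img i w) ∈ L → P w → P (img i w)) →
      (∀ m ∈ known, P m) → ∀ m ∈ need, P m
  | [], known, need, h, _, hk, m, hm => by
    rw [chainOK, List.all_eq_true] at h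
    exact hk _ (List.contains_iff_mem.1 (h m hm))
  | (i, w, x) :: r, known, need, h, hs, hk, m, hm => by
    rw [chainOK, Bool.and_eq_true, Bool.and_eq_true, List.contains_iff_mem] at h
    obtain ⟨⟨hw, hx⟩, hr⟩ := h
    have hx' : img i w = x := Nat.eq_of_beq_eq_true hx
    refine of_chainOK r (x :: known) need hr (fun j u hu => hs j u (List.mem_cons_of_mem _ hu)) ?_ m hm
    intro y hy
    rcases List.mem_cons.1 hy with rfl | hy
    · rw [← hx']
      exact hs i w (List.mem_cons.2 (Or.inl (by rw [hx']))) (hk w hw)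
    · exact hk y hy

theorem allSteps_ok : allSteps.all (fun s => decide ((genMat s.1) *ᵥ vec6 s.2.1 = vec6 s.2.2)) = true := by
  decide +kernel

/-- images of vectors under the six generators, from the list -/
def allImg (i : Fin 6) (w : ℕ) : ℕ :=
  ((allSteps.find? fun s => decide (s.1 = i ∧ s.2.1 = w)).map fun s => s.2.2).getD 0

theorem allSteps_mulVec {s : Fin 6 × ℕ × ℕ} (hs : s ∈ allSteps) :
    (gen s.1).1 *ᵥ vec6 s.2.1 = vec6 s.2.2 := by
  have h := List.all_eq_true.1 allSteps_ok s hs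
  rw [gen_val]
  exact of_decide_eq_true h

theorem allChain_ok : chainOK allImg [32] allSteps [32, 16, 4, 34, 24, 1, 8] = true := by decide +kernel

theorem closure_gen : Subgroup.closure (Set.range gen) = ⊤ := by
  have hstep : ∀ i w, (i, w, allImg i w) ∈ allSteps → T (vec6 w) ∈ Subgroup.closure (Set.range gen) →
      T (vec6 (allImg i w)) ∈ Subgroup.closure (Set.range gen) := by
    intro i w hs hw
    have e := allSteps_mulVec hs
    dsimp only at e
    rw [← e, T_conj]
    have hg : gen i ∈ Subgroup.closure (Set.range gen) := Subgroup.subset_closure ⟨i, rfl⟩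
    exact mul_mem (mul_mem hg hw) (inv_mem hg)
  have hbase : ∀ m ∈ [32], T (vec6 m) ∈ Subgroup.closure (Set.range gen) := by
    intro m hm
    rw [List.mem_singleton.1 hm, ← gen_zero]
    exact Subgroup.subset_closure ⟨0, rfl⟩
  have h := of_chainOK (P := fun m => T (vec6 m) ∈ Subgroup.closure (Set.range gen))
    allSteps [32] _ allChain_ok hstep hbase
  rw [eq_top_iff, ← CfsgLib.Schur.Cox.SpSix.closure_s, Subgroup.closure_le]
  rintro _ ⟨i, rfl⟩
  refine h (![32, 16, 4, 34, 24, 1, 8] i) ?_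
  fin_cases i <;> simp

/-- the image code in the list of 36 vectors -/
def dImg (i : Fin 5) (m : ℕ) : ℕ := (imgList i).getD (dList.idxOf m) 0

theorem img_ok : (List.finRange 5).all (fun i => dList.all fun m =>
    decide ((genMat i.castSucc) *ᵥ vec6 m = vec6 (dImg i m)) && dList.contains (dImg i m)) = true := by
  decide +kernel

theorem gen_mulVec (i : Fin 5) {m : ℕ} (hm : m ∈ dList) :
    (gen i.castSucc).1 *ᵥ vec6 m = vec6 (dImg i m) ∧ dImg i m ∈ dList := by
  have h := List.all_eq_true.1 (List.all_eq_true.1 img_ok i (List.mem_finRange i)) m hm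
  rw [Bool.and_eq_true, decide_eq_true_iff, List.contains_iff_mem] at h
  exact h

theorem six_stab {g : Sp62} (hg : g ∈ Six) {m : ℕ} (hm : m ∈ dList) :
    ∃ x ∈ dList, g.1 *ᵥ vec6 m = vec6 x := by
  have hg' : g ∈ Submonoid.closure (Set.range fun i : Fin 5 => gen i.castSucc) := by
    rw [← Subgroup.closure_toSubmonoid_of_finite]; exact hg
  induction hg' using Submonoid.closure_induction generalizing m with
  | mem a ha => obtain ⟨i, rfl⟩ := ha; exact ⟨_, (gen_mulVec i hm).2, (gen_mulVec i hm).1⟩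
  | one => exact ⟨m, hm, by simp⟩
  | mul a b ha hb iha ihb =>
    have h1 : ∀ c, c ∈ Submonoid.closure (Set.range fun i : Fin 5 => gen i.castSucc) → c ∈ Six := by
      intro c hc
      rw [← Subgroup.closure_toSubmonoid_of_finite] at hc
      exact hc
    obtain ⟨x, hx, ex⟩ := ihb (h1 b hb) hm
    obtain ⟨y, hy, ey⟩ := iha (h1 a ha) hx
    exact ⟨y, hy, by rw [← smul_mulVec, ex, ey]⟩

theorem T_mem_six {m : ℕ} (hm : m ∈ dList) : T (vec6 m) ∈ Six := by
  refine of_chainOK (img := dImg) (P := fun m => m ∈ dList ∧ T (vec6 m) ∈ Six) dSteps [32] dList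
    (by decide +kernel) (fun i w _ hw => ?_) ?_ m hm |>.2
  · refine ⟨(gen_mulVec i hw.1).2, ?_⟩
    rw [← (gen_mulVec i hw.1).1, T_conj]
    exact mul_mem (mul_mem (gen_mem_six i) hw.2) (inv_mem (gen_mem_six i))
  · intro w hw
    rw [List.mem_singleton.1 hw, ← gen_zero]
    exact ⟨by decide, gen_mem_six 0⟩

end CfsgLib.Recog.ThreeLocalSpSix.Model
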