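import Cfsg.Agent.Lib.Recog.ThreeLocalSpSix.Model.Rows
import Cfsg.Agent.Lib.Recog.ThreeLocalSpSix.Model.Transvection

/-!
Owner: helper3. A Sylow 2-subgroup of the model of `W(E₆)`: the two quaternion groups, the first reflection and
the central inversion, in words.
-/

set_option autoImplicit false
set_option linter.all false
set_option maxRecDepth 100000

namespace CfsgLib.Recog.ThreeLocalSpSix.Model

/-- The rows of a word in the first five generators. -/
def rows5 (w : List (Fin 5)) : List ℕ := wordRows (w.map Fin.castSucc)

/-- The product of a word in the first five generators. -/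
def prodSix (w : List (Fin 5)) : Six := (w.map sixGen).prod

theorem prodSix_val (w : List (Fin 5)) : ((prodSix w : Six) : Sp62) = ((w.map Fin.castSucc).map gen).prod := by
  rw [prodSix, Subgroup.val_list_prod, List.map_map, List.map_map]
  rfl

theorem prodSix_eq_iff {w w' : List (Fin 5)} : prodSix w = prodSix w' ↔ rows5 w = rows5 w' :=
  ⟨fun h => rows_of_word_eq (by rw [← prodSix_val, ← prodSix_val, h]),
    fun h => Subtype.ext (by rw [prodSix_val, prodSix_val]; exact word_eq_of_rows h)⟩

theorem prodSix_append (w w' : List (Fin 5)) : prodSix (w ++ w') = prodSix w * prodSix w' := by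
  rw [prodSix, prodSix, prodSix, List.map_append, List.prod_append]

theorem prodSix_nil : prodSix [] = 1 := rfl

theorem rows5_append (w w' : List (Fin 5)) :
    rows5 (w ++ w') = (w'.map Fin.castSucc).foldl (fun L i => L.map (stepRow i)) (rows5 w) := by
  rw [rows5, rows5, wordRows, wordRows, List.map_append, List.foldl_append]

/-- The element of order four. -/
def qWord : List (Fin 5) := [0, 2, 0, 2, 3, 2, 0, 2, 3, 4]

/-- The inverse of the element of order four. -/
def qiWord : List (Fin 5) := [4, 3, 2, 0, 2, 3, 2, 0, 2, 0]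

/-- The second element of order four. -/
def q1Word : List (Fin 5) := [0, 1] ++ qWord ++ [1, 0]

/-- Its inverse. -/
def q1iWord : List (Fin 5) := [0, 1] ++ qiWord ++ [1, 0]

/-- The inverting involution. -/
def wWord : List (Fin 5) := [0, 2, 0, 2, 3, 2, 0, 2, 3]

/-- The product of two reflections. -/
def cWord : List (Fin 5) := [0, 2, 0, 2]

/-- The quaternion group. -/
def qWords : List (List (Fin 5)) :=
  [[], [3], qWord, qWord ++ [3], q1Word, q1Word ++ [3], qWord ++ q1Word, qWord ++ q1Word ++ [3]]

/-- The 128 elements with their parities. -/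
def tReps : List (List (Fin 5) × Bool) :=
  qWords.flatMap fun u => ([[], qWord, q1Word, qWord ++ q1Word] : List (List (Fin 5))).flatMap fun u' =>
    ([([], false), ([0], true), (wWord, true), ([0] ++ wWord, false)] : List (List (Fin 5) × Bool)).map fun s =>
      (u ++ [0] ++ u' ++ [0] ++ s.1, s.2)

/-- The generators of the subgroup. -/
def tGens : List (List (Fin 5)) := [qWord, qiWord, q1Word, q1iWord, [0], wWord]

/-- Witnesses for the even involutions: conjugates of the exchange or of the product of two reflections. -/
def evenWit : List (Bool × List (Fin 5)) :=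
  [(true, []),
    (false, [1, 0, 2, 1, 4, 1]),
    (false, [1, 4, 2, 1, 4, 1]),
    (false, [2, 0, 2, 0, 1, 4]),
    (false, [4, 1, 4, 2, 0, 2, 4]),
    (false, [2, 0, 2, 1, 4, 3]),
    (false, [1, 4, 2, 0, 2, 4]),
    (false, [2, 0, 2, 1, 4]),
    (false, [2, 4, 3, 2, 0, 4, 1]),
    (false, [2, 0, 2, 4, 3]),
    (false, [4, 2, 0, 2, 4]),
    (false, [2, 1, 4, 1]),
    (false, [4, 0, 2, 1, 4, 1]),
    (false, [2, 1, 2, 4, 1, 2, 1]),
    (false, [4, 2, 0, 2, 1, 4]),
    (false, [0, 2, 1, 4, 1]),
    (false, [4, 2, 1, 4, 1]),
    (false, [2, 0, 2, 4]),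
    (false, [4, 2, 0, 2, 4, 3]),
    (false, [2, 3]),
    (true, [2, 0, 2]),
    (false, [4, 2, 3]),
    (true, [4, 2, 0, 2]),
    (false, [2, 0, 1, 4, 1]),
    (true, [0, 1, 4, 2, 0, 2]),
    (false, [1, 4, 2, 3]),
    (true, [1, 4, 2, 0, 2])]

/-- The word of a witness. -/
def witWord (b : Bool × List (Fin 5)) : List (Fin 5) :=
  b.2 ++ (if b.1 then [3] else cWord) ++ b.2.reverse

theorem tReps_nodup : (tReps.map fun x => rows5 x.1).Nodup := by decide +kernel

theorem tReps_length : tReps.length = 128 := by decide +kernel

theorem tReps_closed :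
    (let R := tReps.map fun x => rows5 x.1
     R.all fun L => tGens.all fun g => R.contains ((g.map Fin.castSucc).foldl (fun L i => L.map (stepRow i)) L)) =
      true := by decide +kernel

theorem tReps_sq : tReps.all (fun x =>
    if rows5 (x.1 ++ x.1) == rows5 [3] then
      qWords.any (fun u => rows5 x.1 == rows5 u || rows5 x.1 == rows5 ([0] ++ u ++ [0]))
    else true) = true := by decide +kernel

theorem tReps_even :
    (let W := evenWit.map fun b => rows5 (witWord b)
     tReps.all fun x =>
      if !x.2 && rows5 (x.1 ++ x.1) == rows5 [] && rows5 x.1 != rows5 [] then W.contains (rows5 x.1) else true) =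
      true := by decide +kernel

theorem tReps_center : tReps.all (fun x =>
    if tGens.all (fun g => rows5 (x.1 ++ g) == rows5 (g ++ x.1)) then
      rows5 x.1 == rows5 [] || rows5 x.1 == rows5 [3]
    else true) = true := by decide +kernel

/-- The parity of a word. -/
def parity (w : List (Fin 5)) : ZMod 2 := (w.map fun i => (![1, 1, 0, 0, 1] i : ZMod 2)).sum

theorem tReps_parity : tReps.all (fun x => parity x.1 == if x.2 then 1 else 0) = true := by decide +kernel

theorem sq_words : rows5 [0, 0] = rows5 [] ∧ rows5 (wWord ++ wWord) = rows5 [] := by decide +kernel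

end CfsgLib.Recog.ThreeLocalSpSix.Model
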